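import Groth.Agent.H7Flat.AdaptedPairs
import Groth.Agent.H12AlgSp.DescentLQF

/-!
# Affine opens around fibres of integral morphisms in separated locally quasi-finite schemes
-/

set_option autoImplicit false
set_option linter.style.haveILetI false
set_option backward.isDefEq.respectTransparency false

universe u

open CategoryTheory Limits AlgebraicGeometry TopologicalSpace

namespace Groth.Agent.H8Props.PushoutQF

/-- A compact subset of an open subset lies in a compact open inside it. -/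
theorem exists_qc_open {X : Scheme.{u}} (U : X.Opens) (s : Set X) (hs : IsCompact s)
    (h : s ⊆ (U : Set X)) : ∃ O : X.Opens, IsCompact (O : Set X) ∧ O ≤ U ∧ s ⊆ (O : Set X) := by
  classical
  choose V hV hxV hVle using fun x : s => exists_isAffineOpen_mem_and_subset (U := U) (h x.2)
  obtain ⟨t, ht⟩ := hs.elim_finite_subcover (fun x : s => (V x : Set X)) (fun x => (V x).2)
    (fun x hx => Set.mem_iUnion.2 ⟨⟨x, hx⟩, hxV _⟩)
  refine ⟨⟨⋃ x ∈ t, (V x : Set X), isOpen_biUnion fun x _ => (V x).2⟩,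
    t.finite_toSet.isCompact_biUnion fun x _ => (hV x).isCompact,
    Set.iUnion₂_subset fun x _ => hVle x, ht⟩

/-- The fibres of `j'` lie in affine opens of `X'`. -/
theorem exists_affine_fibre {X X' Y' Z' : Scheme.{u}} (f : X' ⟶ X) [IsSeparated f] [LocallyQuasiFinite f]
    [LocallyOfFiniteType f] (i' : Z' ⟶ X') [IsClosedImmersion i'] (j' : Z' ⟶ Y') [IsIntegralHom j']
    (U : X.Opens) (hU : IsAffineOpen U) (y : Y') (hy : j' ⁻¹' {y} ⊆ i' ⁻¹' (f ⁻¹ᵁ U : X'.Opens)) :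
    ∃ U' : X'.Opens, IsAffineOpen U' ∧ j' ⁻¹' {y} ⊆ i' ⁻¹' (U' : Set X') := by
  let Z₀ : Z'.Opens := i' ⁻¹ᵁ (f ⁻¹ᵁ U)
  have hclosed : IsClosed (j' '' (Z₀ : Set Z')ᶜ) := j'.isClosedMap _ Z₀.2.isClosed_compl
  obtain ⟨V, hV, hyV, hVsub⟩ := exists_isAffineOpen_mem_and_subset
    (U := ⟨(j' '' (Z₀ : Set Z')ᶜ)ᶜ, hclosed.isOpen_compl⟩) (x := y)
    (by rintro ⟨z, hz, hzy⟩; exact hz (hy hzy))
  let W₁ : Z'.Opens := j' ⁻¹ᵁ V
  have hW₁ : IsAffineOpen W₁ := hV.preimage j'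
  have hW₁le : ∀ z ∈ W₁, i' z ∈ f ⁻¹ᵁ U := fun z hz => by
    by_contra hzn
    exact hVsub hz ⟨z, hzn, rfl⟩
  obtain ⟨O, hOc, hOle, hOsub⟩ := exists_qc_open (f ⁻¹ᵁ U) (i' '' (W₁ : Set Z'))
    (hW₁.isCompact.image i'.continuous) (by rintro _ ⟨z, hz, rfl⟩; exact hW₁le z hz)
  haveI : CompactSpace O.toScheme := isCompact_iff_compactSpace.1 hOc
  haveI : IsAffine U.toScheme := hU
  let b : O.toScheme ⟶ U.toScheme := f.resLE U O hOle
  haveI : IsSeparated b := by dsimp only [b]; delta Scheme.Hom.resLE; infer_instance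
  haveI : LocallyQuasiFinite b := by dsimp only [b]; infer_instance
  haveI : LocallyOfFiniteType b := by dsimp only [b]; delta Scheme.Hom.resLE; infer_instance
  haveI : O.toScheme.IsQuasiAffine := H12AlgSp.isQuasiAffine_of_lqf b
  have hle : W₁ ≤ i' ⁻¹ᵁ O := fun z hz => hOsub ⟨z, hz, rfl⟩
  let m : W₁.toScheme ⟶ O.toScheme := i'.resLE O W₁ hle
  let τ := O.toScheme.toSpecΓ
  obtain ⟨K, hK⟩ := (PrimeSpectrum.isClosed_iff_zeroLocus_ideal _).1 τ.opensRange.2.isClosed_compl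
  let φ : Γ(O.toScheme, ⊤) →+* Γ(W₁.toScheme, ⊤) := m.appTop.hom
  haveI : IsAffine W₁.toScheme := hW₁
  have hKφ : K.map φ = ⊤ := by
    by_contra hne
    obtain ⟨M, hM, hle'⟩ := Ideal.exists_le_maximal _ hne
    let Q : Spec Γ(W₁.toScheme, ⊤) := (⟨M, hM.isPrime⟩ : PrimeSpectrum Γ(W₁.toScheme, ⊤))
    let w := W₁.toScheme.isoSpec.inv Q
    have h1 : τ (m w) ∈ τ.opensRange := ⟨_, rfl⟩
    have h2 : τ (m w) = Spec.map m.appTop Q := by
      rw [← Scheme.Hom.comp_apply, Scheme.toSpecΓ_naturality, Scheme.Hom.comp_apply]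
      congr 1
      rw [← Scheme.isoSpec_hom, ← Scheme.Hom.comp_apply, Iso.inv_hom_id]
      rfl
    have h3 : τ (m w) ∈ PrimeSpectrum.zeroLocus (K : Set Γ(O.toScheme, ⊤)) := by
      rw [h2]
      intro x hx
      exact hle' (Ideal.mem_map_of_mem φ hx)
    exact (hK.ge h3 : _) h1
  let g : Γ(Y', V) →+* Γ(W₁.toScheme, ⊤) := (W₁.topIso.inv.hom).comp (j'.app V).hom
  have hg : g.IsIntegral := RingHom.IsIntegral.trans _ _ (j'.isIntegral_app V hV)
    (RingHom.isIntegral_of_surjective _ W₁.topIso.symm.commRingCatIsoToRingEquiv.surjective)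
  obtain ⟨c, hc, b', hb', hbc⟩ := H7Flat.exists_mem_avoid_fibre g hg φ K hKφ (hV.primeIdealOf ⟨y, hyV⟩)
  have hDc : IsAffineOpen (O.toScheme.basicOpen c) := by
    rw [← Scheme.toSpecΓ_preimage_basicOpen]
    rw [← Scheme.Hom.isAffineOpen_iff_of_isOpenImmersion τ]
    convert IsAffineOpen.Spec_basicOpen c
    refine SetLike.coe_injective ?_
    show τ '' (τ ⁻¹' (PrimeSpectrum.basicOpen c : Set (PrimeSpectrum Γ(O.toScheme, ⊤)))) = _
    refine Set.image_preimage_eq_of_subset fun P hP => ?_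
    by_contra hn
    exact hP ((hK.le hn : _) hc)
  refine ⟨O.ι ''ᵁ O.toScheme.basicOpen c, hDc.image_of_isOpenImmersion _, fun z hz => ?_⟩
  have hz : j' z = y := hz
  have hzW : z ∈ W₁ := show j' z ∈ V by rw [hz]; exact hyV
  let w : W₁.toScheme := ⟨z, hzW⟩
  refine ⟨m w, ?_, ?_⟩
  · have hbz : w ∈ W₁.toScheme.basicOpen (g b') := by
      have h1 : z ∈ Z'.basicOpen (j'.app V b') := by
        rw [← Scheme.preimage_basicOpen]
        show j' z ∈ Y'.basicOpen b'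
        rw [hz]
        have h2 : hV.primeIdealOf ⟨y, hyV⟩ ∈ hV.fromSpec ⁻¹ᵁ Y'.basicOpen b' := by
          rw [hV.fromSpec_preimage_basicOpen]; exact hb'
        have h2 : hV.fromSpec (hV.primeIdealOf ⟨y, hyV⟩) ∈ Y'.basicOpen b' := h2
        rwa [hV.fromSpec_primeIdealOf] at h2
      show w ∈ W₁.toScheme.basicOpen (W₁.topIso.inv (j'.app V b'))
      have h3 := Scheme.Opens.ι_image_basicOpen_topIso_inv (U := W₁) (r := j'.app V b')
      rw [← h3] at h1
      obtain ⟨w', hw', e⟩ := h1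
      rwa [show w' = w from Subtype.ext e] at hw'
    show w ∈ m ⁻¹ᵁ O.toScheme.basicOpen c
    rw [Scheme.preimage_basicOpen_top]
    rw [← Scheme.toSpecΓ_preimage_basicOpen] at hbz ⊢
    exact hbc hbz
  · exact congr($(Scheme.Hom.resLE_comp_ι i' hle) w)

end Groth.Agent.H8Props.PushoutQF
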