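import Groth.Agent.H8Props.PushoutQF.Ring
import Groth.Agent.H8Props.PushoutQF.Affine
import Groth.Agent.H7Flat.PushoutCartesian
import Mathlib.AlgebraicGeometry.Morphisms.QuasiFinite
import Mathlib.AlgebraicGeometry.Pullbacks

/-!
# Functoriality of pushouts along closed immersions and integral morphisms
-/

set_option autoImplicit false
set_option linter.style.haveILetI false
set_option backward.isDefEq.respectTransparency false

universe u

open CategoryTheory Limits AlgebraicGeometry TopologicalSpace Opposite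

namespace Groth.Agent.H8Props.PushoutQF

open Groth.Agent.H7Flat

/-- A cartesian square of spectra is a cocartesian square of rings. -/
theorem isPushout_of_isPullback_sm {P Q T W : Type u} [CommRing P] [CommRing Q] [CommRing T] [CommRing W]
    {a : P →+* Q} {b : P →+* T} {c : Q →+* W} {d : T →+* W}
    (h : IsPullback (sm c) (sm d) (sm a) (sm b)) :
    IsPushout (CommRingCat.ofHom a) (CommRingCat.ofHom b) (CommRingCat.ofHom c) (CommRingCat.ofHom d) := by
  have w : CommRingCat.ofHom a ≫ CommRingCat.ofHom c = CommRingCat.ofHom b ≫ CommRingCat.ofHom d := by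
    apply Spec.map_injective
    rw [Spec.map_comp, Spec.map_comp]
    exact h.w
  have h' : IsPullback (CommRingCat.ofHom c).op (CommRingCat.ofHom d).op (CommRingCat.ofHom a).op
      (CommRingCat.ofHom b).op :=
    IsPullback.of_map Scheme.Spec (by rw [← op_comp, ← op_comp, w]) h
  exact h'.unop.flip

/-- Cartesianness can be checked on an open cover of one corner. -/
theorem isPullback_of_cover {A B C D : Scheme.{u}} {fst : A ⟶ B} {snd : A ⟶ C} {f : B ⟶ D} {g : C ⟶ D}
    (w : fst ≫ f = snd ≫ g)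
    (H : ∀ c : C, ∃ (N : Scheme.{u}) (o : N ⟶ C), IsOpenImmersion o ∧ c ∈ Set.range o ∧
      ∃ (M : Scheme.{u}) (m : M ⟶ A) (s : M ⟶ N), IsPullback m s snd o ∧ IsPullback (m ≫ fst) s f (o ≫ g)) :
    IsPullback fst snd f g := by
  let ψ : A ⟶ pullback f g := pullback.lift fst snd w
  choose N o ho hc M m s h1 h2 using H
  let 𝒰 : C.OpenCover :=
    { I₀ := C
      X := N
      f := o
      mem₀ := by
        rw [Scheme.presieve₀_mem_precoverage_iff]
        exact ⟨fun x => ⟨x, hc x⟩, ho⟩ }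
  suffices IsIso ψ from IsPullback.of_iso (IsPullback.of_hasPullback f g) (asIso ψ).symm (Iso.refl _) (Iso.refl _) (Iso.refl _)
    (by simp [ψ]) (by simp [ψ]) (by simp) (by simp)
  refine (IsZariskiLocalAtTarget.iff_of_openCover (P := MorphismProperty.isomorphisms Scheme.{u})
    (𝒰.pullback₁ (pullback.snd f g))).2 fun x => ?_
  let q := pullback.fst (pullback.snd f g) (o x)
  have hQ : IsPullback (q ≫ pullback.fst f g) (pullback.snd (pullback.snd f g) (o x)) f (o x ≫ g) :=
    (IsPullback.of_hasPullback (pullback.snd f g) (o x)).paste_horiz (IsPullback.of_hasPullback f g)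
  let e := (h2 x).isoPullback ≪≫ hQ.isoPullback.symm
  have he1 : e.hom ≫ q ≫ pullback.fst f g = m x ≫ fst := by simp [e]
  have he2 : e.hom ≫ pullback.snd (pullback.snd f g) (o x) = s x := by simp [e]
  have he : e.hom ≫ q = m x ≫ ψ := by
    apply pullback.hom_ext
    · simp [ψ, he1]
    · rw [Category.assoc, pullback.condition, ← Category.assoc, he2, Category.assoc]
      simp [ψ, (h1 x).w]
  have hp : IsPullback (m x) e.hom ψ q := by
    refine IsPullback.of_bot ?_ he.symm (IsPullback.of_hasPullback (pullback.snd f g) (o x))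
    rw [he2, pullback.lift_snd]
    exact h1 x
  show IsIso (pullback.snd ψ q)
  rw [show pullback.snd ψ q = hp.isoPullback.inv ≫ e.hom from (hp.isoPullback_inv_snd).symm]
  infer_instance

/-- Jointly surjective universally closed separated maps detect separatedness. -/
theorem isSeparated_of_pair {X T P Y : Scheme.{u}} (a : X ⟶ P) (b : T ⟶ P) (g : P ⟶ Y)
    (hjs : ∀ r : P, (∃ x, a x = r) ∨ ∃ τ, b τ = r) [UniversallyClosed a] [UniversallyClosed b]
    [IsSeparated (a ≫ g)] [IsSeparated (b ≫ g)] : IsSeparated g := by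
  refine ⟨IsClosedImmersion.of_isPreimmersion _ ?_⟩
  have key : ∀ {W : Scheme.{u}} (c : W ⟶ P) [UniversallyClosed c] [IsSeparated (c ≫ g)],
      IsClosed (Set.range (c ≫ pullback.diagonal g)) := by
    intro W c _ _
    let m : pullback (c ≫ g) (c ≫ g) ⟶ pullback g g :=
      pullback.map (c ≫ g) (c ≫ g) g g c c (𝟙 Y) (Category.comp_id _) (Category.comp_id _)
    haveI hm : UniversallyClosed m :=
      MorphismProperty.pullbackMap (P := @UniversallyClosed) ‹UniversallyClosed c› ‹UniversallyClosed c› rfl rfl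
    have e : c ≫ pullback.diagonal g = pullback.diagonal (c ≫ g) ≫ m :=
      pullback.hom_ext (by simp only [m, pullback.map, Category.assoc, pullback.lift_fst, pullback.diagonal_fst_assoc, pullback.diagonal_fst, Category.comp_id]) (by simp only [m, pullback.map, Category.assoc, pullback.lift_snd, pullback.diagonal_snd_assoc, pullback.diagonal_snd, Category.comp_id])
    rw [e]
    exact (pullback.diagonal (c ≫ g) ≫ m).isClosedMap.isClosed_range
  have e : Set.range (pullback.diagonal g) =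
      Set.range (a ≫ pullback.diagonal g) ∪ Set.range (b ≫ pullback.diagonal g) := by
    ext y
    constructor
    · rintro ⟨r, rfl⟩
      rcases hjs r with ⟨x, rfl⟩ | ⟨τ, rfl⟩
      · exact Or.inl ⟨x, Scheme.Hom.comp_apply _ _ _⟩
      · exact Or.inr ⟨τ, Scheme.Hom.comp_apply _ _ _⟩
    · rintro (⟨w, rfl⟩ | ⟨w, rfl⟩) <;> exact ⟨_, (Scheme.Hom.comp_apply _ _ _).symm⟩
  rw [e]
  exact (key a).union (key b)

/-- Every point of a glued pushout comes from one of the two schemes. -/
theorem exists_preimage_glued {X Y Z : Scheme.{u}} {i : Z ⟶ X} {j : Z ⟶ Y} [IsClosedImmersion i]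
    (hcov : ∀ y : Y, ∃ π : AP i j, y ∈ π.V) (w : glued i j) :
    (∃ x, inX hcov x = w) ∨ ∃ y, inY hcov y = w := by
  obtain ⟨π, r, rfl⟩ := chart_jointly_surjective i j w
  obtain ⟨β, hβ⟩ | ⟨α, hα, -⟩ := π.ringSq.exists_preimage r
  · exact .inr ⟨π.hV.fromSpec β, by rw [← hβ]; exact congr($(fromSpec_inY hcov π) β)⟩
  · exact .inl ⟨π.hU.fromSpec α, by rw [← hα]; exact congr($(fromSpec_inX hcov π) α)⟩

section

variable {X Y Z X' Y' Z' : Scheme.{u}} {i : Z ⟶ X} {j : Z ⟶ Y} {i' : Z' ⟶ X'} {j' : Z' ⟶ Y'}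
  {f : X' ⟶ X} {g : Y' ⟶ Y} {h : Z' ⟶ Z}

/-- A pair of affine opens over another one. -/
structure Over' (f : X' ⟶ X) (g : Y' ⟶ Y) (π' : AP i' j') (π : AP i j) : Prop where
  hU : π'.U ≤ f ⁻¹ᵁ π.U
  hV : π'.V ≤ g ⁻¹ᵁ π.V

variable [IsClosedImmersion i] [IsClosedImmersion i'] {π' : AP i' j'} {π : AP i j}

namespace Over'

variable (o : Over' f g π' π)

noncomputable abbrev fA : Γ(X, π.U) →+* Γ(X', π'.U) := (f.appLE π.U π'.U o.hU).hom

noncomputable abbrev fB : Γ(Y, π.V) →+* Γ(Y', π'.V) := (g.appLE π.V π'.V o.hV).hom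

variable (hX : IsPullback h i' i f) (hY : IsPullback h j' j g)

include o hX in
omit [IsClosedImmersion i] [IsClosedImmersion i'] in
theorem hW : π'.W ≤ h ⁻¹ᵁ π.W := fun z hz => by
  show i (h z) ∈ π.U
  rw [← Scheme.Hom.comp_apply, hX.w]
  exact o.hU hz

noncomputable abbrev fC : Γ(Z, π.W) →+* Γ(Z', π'.W) := (h.appLE π.W π'.W (o.hW hX)).hom

omit [IsClosedImmersion i] [IsClosedImmersion i'] in
theorem spec_fA : sm o.fA ≫ π.hU.fromSpec = π'.hU.fromSpec ≫ f :=
  π.hU.SpecMap_appLE_fromSpec f π'.hU o.hU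

omit [IsClosedImmersion i] [IsClosedImmersion i'] in
theorem spec_fB : sm o.fB ≫ π.hV.fromSpec = π'.hV.fromSpec ≫ g :=
  π.hV.SpecMap_appLE_fromSpec g π'.hV o.hV

theorem spec_fC : sm (o.fC hX) ≫ π.hW.fromSpec = π'.hW.fromSpec ≫ h :=
  π.hW.SpecMap_appLE_fromSpec h π'.hW (o.hW hX)

include hX in
theorem pushA : IsPushout (CommRingCat.ofHom π.p) (CommRingCat.ofHom o.fA) (CommRingCat.ofHom (o.fC hX))
    (CommRingCat.ofHom π'.p) := by
  apply isPushout_of_isPullback_sm
  have h1 : IsPullback (sm π'.p) π'.hW.fromSpec π'.hU.fromSpec i' :=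
    IsOpenImmersion.isPullback _ _ _ _ π'.fromSpec_p.symm (by
      rw [IsAffineOpen.opensRange_fromSpec, IsAffineOpen.opensRange_fromSpec])
  have h2 : IsPullback (π'.hW.fromSpec ≫ h) (sm π'.p) i (π'.hU.fromSpec ≫ f) := h1.flip.paste_horiz hX
  have h3 : IsPullback (sm π.p) π.hW.fromSpec π.hU.fromSpec i :=
    IsOpenImmersion.isPullback _ _ _ _ π.fromSpec_p.symm (by
      rw [IsAffineOpen.opensRange_fromSpec, IsAffineOpen.opensRange_fromSpec])
  rw [← o.spec_fC hX, ← o.spec_fA] at h2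
  refine (IsPullback.of_bot h2.flip ?_ h3).flip
  rw [← cancel_mono π.hU.fromSpec, Category.assoc, Category.assoc, π.fromSpec_p, o.spec_fA,
    ← Category.assoc (sm π'.p), π'.fromSpec_p, Category.assoc, ← hX.w, ← Category.assoc π'.hW.fromSpec,
    ← o.spec_fC hX, Category.assoc]

include hX hY in
theorem pushB : IsPushout (CommRingCat.ofHom π.q) (CommRingCat.ofHom o.fB) (CommRingCat.ofHom (o.fC hX))
    (CommRingCat.ofHom π'.q) := by
  apply isPushout_of_isPullback_sm
  have h1 : IsPullback (sm π'.q) π'.hW.fromSpec π'.hV.fromSpec j' :=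
    IsOpenImmersion.isPullback _ _ _ _ π'.fromSpec_q.symm (by
      rw [IsAffineOpen.opensRange_fromSpec, IsAffineOpen.opensRange_fromSpec]; exact π'.hUV.symm)
  have h2 : IsPullback (π'.hW.fromSpec ≫ h) (sm π'.q) j (π'.hV.fromSpec ≫ g) := h1.flip.paste_horiz hY
  have h3 : IsPullback (sm π.q) π.hW.fromSpec π.hV.fromSpec j :=
    IsOpenImmersion.isPullback _ _ _ _ π.fromSpec_q.symm (by
      rw [IsAffineOpen.opensRange_fromSpec, IsAffineOpen.opensRange_fromSpec]; exact π.hUV.symm)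
  rw [← o.spec_fC hX, ← o.spec_fB] at h2
  refine (IsPullback.of_bot h2.flip ?_ h3).flip
  rw [← cancel_mono π.hV.fromSpec, Category.assoc, Category.assoc, π.fromSpec_q, o.spec_fB,
    ← Category.assoc (sm π'.q), π'.fromSpec_q, Category.assoc, ← hY.w, ← Category.assoc π'.hW.fromSpec,
    ← o.spec_fC hX, Category.assoc]

/-- The map on the rings of the pairs. -/
noncomputable def φ : π.R →+* π'.R :=
  RingHom.codRestrict (RingHom.prod (o.fA.comp π.pa) (o.fB.comp π.pb)) π'.R fun z => by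
    have e1 := congr($((o.pushA hX).w).hom z.1.1)
    have e2 := congr($((o.pushB hX hY).w).hom z.1.2)
    show π'.p (o.fA (π.pa z)) = π'.q (o.fB (π.pb z))
    refine e1.symm.trans (Eq.trans ?_ e2)
    show o.fC hX (π.p _) = o.fC hX (π.q _)
    exact congrArg _ z.2

theorem sqHom : SqHom π.pa π.pb π.p π.q π'.pa π'.pb π'.p π'.q (o.φ hX hY) o.fA o.fB (o.fC hX) where
  sq := π.ringSq
  sq' := π'.ringSq
  commA := rfl
  commB := rfl
  pushA := o.pushA hX
  pushB := o.pushB hX hY

variable (hcov : ∀ y : Y, ∃ π : AP i j, y ∈ π.V) (hcov' : ∀ y : Y', ∃ π : AP i' j', y ∈ π.V)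

include hX hY in
theorem chart_comp (k : glued i' j' ⟶ glued i j) (hkX : inX hcov' ≫ k = f ≫ inX hcov)
    (hkY : inY hcov' ≫ k = g ≫ inY hcov) :
    chart i' j' π' ≫ k = sm (o.φ hX hY) ≫ chart i j π := by
  refine π'.ringSq.hom_ext ?_ ?_
  · rw [← Category.assoc, ← fromSpec_inX hcov', Category.assoc, hkX, ← Category.assoc, ← o.spec_fA,
      Category.assoc, fromSpec_inX hcov, ← Category.assoc (sm π'.pa), ← sm_comp,
      ← Category.assoc (sm o.fA), ← sm_comp]
    rfl
  · rw [← Category.assoc, ← fromSpec_inY hcov', Category.assoc, hkY, ← Category.assoc, ← o.spec_fB,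
      Category.assoc, fromSpec_inY hcov, ← Category.assoc (sm π'.pb), ← sm_comp,
      ← Category.assoc (sm o.fB), ← sm_comp]
    rfl

end Over'

variable (hX : IsPullback h i' i f) (hY : IsPullback h j' j g)
variable (hcov : ∀ y : Y, ∃ π : AP i j, y ∈ π.V) (hcov' : ∀ y : Y', ∃ π : AP i' j', y ∈ π.V)

include hX hY hcov in
/-- Pairs lying over pairs cover the pushout. -/
theorem exists_over (w : glued i' j') :
    ∃ (π' : AP i' j') (π : AP i j), Over' f g π' π ∧ w ∈ Set.range (chart i' j' π') := by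
  obtain ⟨π', r, rfl⟩ := chart_jointly_surjective i' j' w
  have compat : ∀ π : AP i j, ∀ z ∈ π'.W, i' z ∈ f ⁻¹ᵁ π.U ↔ j' z ∈ g ⁻¹ᵁ π.V := fun π z _ => by
    show f (i' z) ∈ π.U ↔ g (j' z) ∈ π.V
    rw [← Scheme.Hom.comp_apply, ← hX.w, Scheme.Hom.comp_apply, ← Scheme.Hom.comp_apply j', ← hY.w,
      Scheme.Hom.comp_apply]
    exact iff_of_eq (congrArg (h z ∈ ·) π.hUV)
  have fin : ∀ π : AP i j, (∃ e : π'.R, r ∈ PrimeSpectrum.basicOpen e ∧ (π'.basic e).U ≤ f ⁻¹ᵁ π.U ∧
      (π'.basic e).V ≤ g ⁻¹ᵁ π.V) → ∃ (π₁ : AP i' j') (π : AP i j), Over' f g π₁ π ∧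
        chart i' j' π' r ∈ Set.range (chart i' j' π₁) := by
    rintro π ⟨e, he, h1, h2⟩
    refine ⟨π'.basic e, π, ⟨h1, h2⟩, ?_⟩
    obtain ⟨r₀, hr₀⟩ := (π'.range_res_basic e).ge he
    exact ⟨r₀, by rw [← chart_res i' j' (π'.basic_le e), Scheme.Hom.comp_apply, hr₀]⟩
  obtain ⟨β, hβ⟩ | ⟨α, hα, -⟩ := π'.ringSq.exists_preimage r
  · obtain ⟨π, hπ⟩ := hcov (g (π'.hV.fromSpec β))
    exact fin π (π'.exists_basic_of_opens _ _ (compat π) r (.inr ⟨β, hπ, hβ⟩))
  · obtain ⟨π, hπ⟩ := AP.exists_mem_U hcov (f (π'.hU.fromSpec α))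
    exact fin π (π'.exists_basic_of_opens _ _ (compat π) r (.inl ⟨α, hπ, hα⟩))

end

theorem main {X Y Z X' Y' Z' : Scheme.{u}}
    (i : Z ⟶ X) [IsClosedImmersion i] (j : Z ⟶ Y) [IsIntegralHom j]
    (h3 : ∀ y : Y, ∃ U : X.Opens, IsAffineOpen U ∧ j ⁻¹' {y} ⊆ (i ⁻¹ᵁ U : Set ↑Z))
    (i' : Z' ⟶ X') (j' : Z' ⟶ Y') (f : X' ⟶ X) (g : Y' ⟶ Y) (h : Z' ⟶ Z)
    (hX : IsPullback h i' i f) (hY : IsPullback h j' j g)
    [IsSeparated f] [LocallyQuasiFinite f] [LocallyOfFiniteType f] [IsSeparated g] [LocallyQuasiFinite g]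
    [LocallyOfFiniteType g] :
    ∃ (W W' : Scheme.{u}) (a : Y ⟶ W) (b : X ⟶ W) (a' : Y' ⟶ W') (b' : X' ⟶ W') (k : W' ⟶ W),
      IsPushout j i a b ∧ IsPushout j' i' a' b' ∧ a' ≫ k = g ≫ a ∧ b' ≫ k = f ≫ b ∧
      IsSeparated k ∧ LocallyQuasiFinite k ∧ LocallyOfFiniteType k ∧ IsPullback g a' a k ∧ IsPullback f b' b k := by
  haveI : IsClosedImmersion i' := MorphismProperty.of_isPullback hX inferInstance
  haveI : IsIntegralHom j' := MorphismProperty.of_isPullback hY inferInstance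
  have hcov := exists_adapted_pair i j h3
  have hcov' : ∀ y' : Y', ∃ π : AP i' j', y' ∈ π.V := by
    refine exists_adapted_pair i' j' fun y' => ?_
    obtain ⟨U, hU, hsub⟩ := h3 (g y')
    refine exists_affine_fibre f i' j' U hU y' fun z hz => ?_
    show f (i' z) ∈ U
    rw [← Scheme.Hom.comp_apply, ← hX.w, Scheme.Hom.comp_apply]
    refine hsub ?_
    show j (h z) = g y'
    rw [← Scheme.Hom.comp_apply, hY.w, Scheme.Hom.comp_apply, show j' z = y' from hz]
  have hP' := glued_isPushout hcov'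
  let k : glued i' j' ⟶ glued i j := hP'.desc (f ≫ inX hcov) (g ≫ inY hcov) (by
    rw [← Category.assoc, ← hX.w, Category.assoc, inX_comm hcov, ← Category.assoc, hY.w, Category.assoc])
  have hkX : inX hcov' ≫ k = f ≫ inX hcov := hP'.inl_desc _ _ _
  have hkY : inY hcov' ≫ k = g ≫ inY hcov := hP'.inr_desc _ _ _
  let I := {x : AP i' j' × AP i j // Over' f g x.1 x.2}
  let 𝒰 : (glued i' j').OpenCover :=
    { I₀ := I
      X := fun x => Spec (CommRingCat.of x.1.1.R)
      f := fun x => chart i' j' x.1.1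
      mem₀ := by
        rw [Scheme.presieve₀_mem_precoverage_iff]
        refine ⟨fun w => ?_, fun x => inferInstance⟩
        obtain ⟨π', π, o, hw⟩ := exists_over hX hY hcov w
        exact ⟨⟨(π', π), o⟩, hw⟩ }
  have hkey : ∀ x : I, chart i' j' x.1.1 ≫ k = sm (x.2.φ hX hY) ≫ chart i j x.1.2 := fun x =>
    x.2.chart_comp hX hY hcov hcov' k hkX hkY
  have hlft : ∀ x : I, LocallyOfFiniteType (sm (x.2.φ hX hY)) := fun x =>
    (HasRingHomProperty.Spec_iff (P := @LocallyOfFiniteType)).2 ((x.2.sqHom hX hY).finiteType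
      (f.finiteType_appLE x.1.2.hU x.1.1.hU x.2.hU) (g.finiteType_appLE x.1.2.hV x.1.1.hV x.2.hV))
  have hlqf : ∀ x : I, LocallyQuasiFinite (sm (x.2.φ hX hY)) := fun x => by
    haveI := hlft x
    refine .of_finite_preimage_singleton _ ((x.2.sqHom hX hY).finite_fibre (fun a => ?_) (fun b => ?_))
    · haveI : LocallyQuasiFinite (sm x.2.fA ≫ x.1.2.hU.fromSpec) := by
        rw [x.2.spec_fA]; infer_instance
      haveI := LocallyQuasiFinite.of_comp (sm x.2.fA) x.1.2.hU.fromSpec
      exact (sm x.2.fA).finite_preimage_singleton a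
    · haveI : LocallyQuasiFinite (sm x.2.fB ≫ x.1.2.hV.fromSpec) := by
        rw [x.2.spec_fB]; infer_instance
      haveI := LocallyQuasiFinite.of_comp (sm x.2.fB) x.1.2.hV.fromSpec
      exact (sm x.2.fB).finite_preimage_singleton b
  haveI : IsClosedImmersion (inY hcov) := inY_isClosedImmersion hcov
  haveI : IsClosedImmersion (inY hcov') := inY_isClosedImmersion hcov'
  haveI : IsAffineHom (inX hcov) := inX_isAffineHom hcov
  haveI : IsIntegralHom (inX hcov') := inX_isIntegralHom hcov'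
  refine ⟨glued i j, glued i' j', inY hcov, inX hcov, inY hcov', inX hcov', k,
    (glued_isPushout hcov).flip, hP'.flip, hkY, hkX, ?_, ?_, ?_, ?_, ?_⟩
  · haveI : IsSeparated (inX hcov' ≫ k) := by rw [hkX]; infer_instance
    haveI : IsSeparated (inY hcov' ≫ k) := by rw [hkY]; infer_instance
    exact isSeparated_of_pair (inX hcov') (inY hcov') k (exists_preimage_glued hcov')
  · refine (IsZariskiLocalAtSource.iff_of_openCover (P := @LocallyQuasiFinite) 𝒰).2 fun x => ?_
    show LocallyQuasiFinite (chart i' j' x.1.1 ≫ k)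
    rw [hkey x]
    haveI := hlqf x
    infer_instance
  · refine (IsZariskiLocalAtSource.iff_of_openCover (P := @LocallyOfFiniteType) 𝒰).2 fun x => ?_
    show LocallyOfFiniteType (chart i' j' x.1.1 ≫ k)
    rw [hkey x]
    haveI := hlft x
    infer_instance
  · refine isPullback_of_cover hkY.symm fun c => ?_
    obtain ⟨π', π, o, hc⟩ := exists_over hX hY hcov c
    have h1 : IsPullback π'.hV.fromSpec (sm π'.pb) (inY hcov') (chart i' j' π') :=
      (IsOpenImmersion.isPullback _ _ _ _ (fromSpec_inY hcov' π') (inY_preimage hcov' π')).flip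
    refine ⟨_, chart i' j' π', inferInstance, hc, _, π'.hV.fromSpec, sm π'.pb, h1, ?_⟩
    rw [← o.spec_fB, o.chart_comp hX hY hcov hcov' k hkX hkY]
    exact (isPullback_SpecMap_of_isPushout _ _ _ _ (o.sqHom hX hY).isPushout.2).paste_horiz
      (IsOpenImmersion.isPullback _ _ _ _ (fromSpec_inY hcov π) (inY_preimage hcov π)).flip
  · refine isPullback_of_cover hkX.symm fun c => ?_
    obtain ⟨π', π, o, hc⟩ := exists_over hX hY hcov c
    have h1 : IsPullback π'.hU.fromSpec (sm π'.pa) (inX hcov') (chart i' j' π') :=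
      (IsOpenImmersion.isPullback _ _ _ _ (fromSpec_inX hcov' π') (inX_preimage hcov' π')).flip
    refine ⟨_, chart i' j' π', inferInstance, hc, _, π'.hU.fromSpec, sm π'.pa, h1, ?_⟩
    rw [← o.spec_fA, o.chart_comp hX hY hcov hcov' k hkX hkY]
    exact (isPullback_SpecMap_of_isPushout _ _ _ _ (o.sqHom hX hY).isPushout.1).paste_horiz
      (IsOpenImmersion.isPullback _ _ _ _ (fromSpec_inX hcov π) (inX_preimage hcov π)).flip

end Groth.Agent.H8Props.PushoutQF
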