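import Groth.Agent.H7Flat.PushoutRing
import Mathlib.Algebra.Category.Ring.Constructions
import Mathlib.RingTheory.FiniteType
import Mathlib.LinearAlgebra.TensorProduct.Finiteness
import Mathlib.RingTheory.RingHom.FiniteType
import Mathlib.RingTheory.Spectrum.Prime.Topology

/-!
# Morphisms of fibre squares of rings which are cartesian on both sides

For a map of fibre squares `R' = A' ×_{C'} B'` over `R = A ×_C B` with `C' = A' ⊗_A C = B' ⊗_B C`
we show `A' = A ⊗_R R'`, `B' = B ⊗_R R'`, finite type and finiteness of fibres.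
-/

set_option autoImplicit false
set_option linter.style.haveILetI false

universe u

open CategoryTheory Limits TensorProduct

namespace Groth.Agent.H8Props.PushoutQF

open Groth.Agent.H7Flat

variable {R A B C R' A' B' C' : Type u} [CommRing R] [CommRing A] [CommRing B] [CommRing C]
  [CommRing R'] [CommRing A'] [CommRing B'] [CommRing C']
  {pa : R →+* A} {pb : R →+* B} {p : A →+* C} {q : B →+* C}
  {pa' : R' →+* A'} {pb' : R' →+* B'} {p' : A' →+* C'} {q' : B' →+* C'}
  {φ : R →+* R'} {fA : A →+* A'} {fB : B →+* B'} {fC : C →+* C'}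

/-- A map of fibre squares of rings which is cartesian on both sides. -/
structure SqHom (pa : R →+* A) (pb : R →+* B) (p : A →+* C) (q : B →+* C) (pa' : R' →+* A')
    (pb' : R' →+* B') (p' : A' →+* C') (q' : B' →+* C') (φ : R →+* R') (fA : A →+* A')
    (fB : B →+* B') (fC : C →+* C') : Prop where
  sq : RingSq pa pb p q
  sq' : RingSq pa' pb' p' q'
  commA : pa'.comp φ = fA.comp pa
  commB : pb'.comp φ = fB.comp pb
  pushA : IsPushout (CommRingCat.ofHom p) (CommRingCat.ofHom fA) (CommRingCat.ofHom fC) (CommRingCat.ofHom p')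
  pushB : IsPushout (CommRingCat.ofHom q) (CommRingCat.ofHom fB) (CommRingCat.ofHom fC) (CommRingCat.ofHom q')

/-- The ring of the corner of a pushout is generated by the two images. -/
theorem mem_subring_of_isPushout {P Q T W : Type u} [CommRing P] [CommRing Q] [CommRing T] [CommRing W]
    {a : P →+* Q} {b : P →+* T} {c : Q →+* W} {d : T →+* W}
    (h : IsPushout (CommRingCat.ofHom a) (CommRingCat.ofHom b) (CommRingCat.ofHom c) (CommRingCat.ofHom d))
    (S : Subring W) (h1 : ∀ x, c x ∈ S) (h2 : ∀ x, d x ∈ S) (w : W) : w ∈ S := by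
  let c' : Q →+* S := c.codRestrict S h1
  let d' : T →+* S := d.codRestrict S h2
  have hw : CommRingCat.ofHom a ≫ CommRingCat.ofHom c' = CommRingCat.ofHom b ≫ CommRingCat.ofHom d' := by
    ext x
    show c (a x) = d (b x)
    exact congr($(h.w).hom x)
  have he : h.desc _ _ hw ≫ CommRingCat.ofHom S.subtype = 𝟙 _ := by
    apply h.hom_ext
    · rw [← Category.assoc, h.inl_desc, Category.comp_id]; rfl
    · rw [← Category.assoc, h.inr_desc, Category.comp_id]; rfl
  have hval : ((h.desc _ _ hw).hom w : W) = w := congr($(he).hom w)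
  have hmem := ((h.desc _ _ hw).hom w).2
  rwa [hval] at hmem

namespace SqHom

variable (H : SqHom pa pb p q pa' pb' p' q' φ fA fB fC)
include H

theorem ker_le_range {x : A'} (hx : p' x = 0) : x ∈ pa'.range := by
  obtain ⟨z, hz, -⟩ := H.sq'.exists_lift x 0 (by rw [hx, map_zero])
  exact ⟨z, hz⟩

theorem ker_le_map : RingHom.ker p' ≤ (RingHom.ker p).map fA := by
  let J := (RingHom.ker p).map fA
  have hJ : RingHom.ker p ≤ RingHom.ker ((Ideal.Quotient.mk J).comp fA) := fun x hx =>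
    Ideal.Quotient.eq_zero_iff_mem.2 (Ideal.mem_map_of_mem fA hx)
  let u : C →+* A' ⧸ J := p.liftOfSurjective H.sq.surj ⟨_, hJ⟩
  have hu : u.comp p = (Ideal.Quotient.mk J).comp fA := RingHom.liftOfRightInverse_comp _ _ _ _
  have hw : CommRingCat.ofHom p ≫ CommRingCat.ofHom u =
      CommRingCat.ofHom fA ≫ CommRingCat.ofHom (Ideal.Quotient.mk J) := CommRingCat.hom_ext hu
  intro x hx
  have h2 := congr($(H.pushA.inr_desc _ _ hw).hom x)
  have h3 : (0 : A' ⧸ J) = Ideal.Quotient.mk J x := by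
    refine Eq.trans ?_ h2
    show 0 = (H.pushA.desc _ _ hw).hom (p' x)
    rw [show p' x = 0 from hx, map_zero]
  exact Ideal.Quotient.eq_zero_iff_mem.1 h3.symm

theorem subring_eq_top (S : Subring A') (h1 : ∀ a, fA a ∈ S) (h2 : ∀ r, pa' r ∈ S) (x : A') : x ∈ S := by
  have hC : p' x ∈ S.map p' := by
    refine mem_subring_of_isPushout H.pushB (S.map p') (fun c => ?_) (fun b' => ?_) _
    · obtain ⟨a, rfl⟩ := H.sq.surj c
      exact ⟨fA a, h1 a, congr($(H.pushA.w).hom a).symm⟩
    · obtain ⟨a', ha'⟩ := H.sq'.surj (q' b')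
      obtain ⟨z, hz, -⟩ := H.sq'.exists_lift a' b' ha'
      exact ⟨a', hz ▸ h2 z, ha'⟩
  obtain ⟨y, hy, hxy⟩ := hC
  obtain ⟨z, hz⟩ := H.ker_le_range (x := x - y) (by rw [map_sub, hxy, sub_self])
  have h3 := S.add_mem (h2 z) hy
  rwa [hz, sub_add_cancel] at h3

/-- `A' = A ⊗_R R'` and `B' = B ⊗_R R'`. -/
theorem isPushout : IsPushout (CommRingCat.ofHom pa) (CommRingCat.ofHom φ) (CommRingCat.ofHom fA) (CommRingCat.ofHom pa') ∧
    IsPushout (CommRingCat.ofHom pb) (CommRingCat.ofHom φ) (CommRingCat.ofHom fB) (CommRingCat.ofHom pb') := by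
  letI := pa.toAlgebra
  letI := φ.toAlgebra
  letI : Algebra R A' := (fA.comp pa).toAlgebra
  let fA' : A →ₐ[R] A' := { fA with commutes' := fun _ => rfl }
  let pa'' : R' →ₐ[R] A' := { pa' with commutes' := fun r => congr($(H.commA) r) }
  let μ : A ⊗[R] R' →ₐ[R] A' := Algebra.TensorProduct.lift fA' pa'' fun _ _ => Commute.all _ _
  have hμ : ∀ a r, μ (a ⊗ₜ r) = fA a * pa' r := fun a r => Algebra.TensorProduct.lift_tmul _ _ _ a r
  have hsurj : Function.Surjective μ := fun x =>
    H.subring_eq_top μ.range.toSubring (fun a => ⟨a ⊗ₜ 1, by simp [hμ]⟩)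
      (fun r => ⟨1 ⊗ₜ r, by simp [hμ]⟩) x
  let N : Ideal R' := (RingHom.ker pb).map φ
  have hNker : N ≤ RingHom.ker pb' := Ideal.map_le_iff_le_comap.2 fun z hz => by
    show pb' (φ z) = 0
    rw [show pb' (φ z) = fB (pb z) from congr($(H.commB) z), show pb z = 0 from hz, map_zero]
  -- elements of `N` move across the tensor sign
  have hmove : ∀ w ∈ N, ∀ a : A, ∃ w' ∈ N, a ⊗ₜ[R] w = 1 ⊗ₜ w' := by
    intro w hw
    induction hw using Submodule.span_induction with
    | mem w hw =>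
      obtain ⟨z, hz, rfl⟩ := hw
      intro a
      obtain ⟨z', hz1, hz2⟩ := H.sq.exists_lift (a * pa z) 0 (by
        rw [map_mul, H.sq.comm, show pb z = 0 from hz, map_zero, mul_zero])
      refine ⟨φ z', Ideal.mem_map_of_mem φ hz2, ?_⟩
      calc a ⊗ₜ[R] φ z = a ⊗ₜ[R] (z • (1 : R')) := by rw [Algebra.smul_def, mul_one]; rfl
        _ = (z • a) ⊗ₜ[R] (1 : R') := (TensorProduct.smul_tmul _ _ _).symm
        _ = (z' • (1 : A)) ⊗ₜ[R] (1 : R') := by
          rw [Algebra.smul_def, Algebra.smul_def, mul_one, mul_comm]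
          exact congrArg (· ⊗ₜ[R] (1 : R')) hz1.symm
        _ = 1 ⊗ₜ[R] φ z' := by rw [TensorProduct.smul_tmul, Algebra.smul_def, mul_one]; rfl
    | zero => exact fun a => ⟨0, N.zero_mem, by simp⟩
    | add x y _ _ hx hy =>
      intro a
      obtain ⟨x', hx', ex⟩ := hx a
      obtain ⟨y', hy', ey⟩ := hy a
      exact ⟨x' + y', N.add_mem hx' hy', by rw [tmul_add, tmul_add, ex, ey]⟩
    | smul r x _ hx =>
      intro a
      obtain ⟨x', hx', ex⟩ := hx a
      refine ⟨r * x', N.mul_mem_left r hx', ?_⟩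
      calc a ⊗ₜ[R] (r • x) = (1 ⊗ₜ[R] r) * (a ⊗ₜ[R] x) := by
            rw [Algebra.TensorProduct.tmul_mul_tmul, one_mul, smul_eq_mul]
        _ = 1 ⊗ₜ[R] (r * x') := by rw [ex, Algebra.TensorProduct.tmul_mul_tmul, one_mul]
  let J : Ideal (A ⊗[R] R') :=
    (RingHom.ker p).map (Algebra.TensorProduct.includeLeft : A →ₐ[R] A ⊗[R] R').toRingHom
  have hJ : ∀ t ∈ J, ∃ w ∈ N, t = 1 ⊗ₜ w := by
    intro t ht
    induction ht using Submodule.span_induction with
    | mem t ht =>
      obtain ⟨x, hx, rfl⟩ := ht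
      obtain ⟨z, hz1, hz2⟩ := H.sq.exists_lift x 0 (by rw [show p x = 0 from hx, map_zero])
      refine ⟨φ z, Ideal.mem_map_of_mem φ hz2, ?_⟩
      show x ⊗ₜ[R] (1 : R') = _
      calc x ⊗ₜ[R] (1 : R') = (z • (1 : A)) ⊗ₜ[R] (1 : R') := by
            rw [Algebra.smul_def, mul_one]; exact congrArg (· ⊗ₜ[R] (1 : R')) hz1.symm
        _ = 1 ⊗ₜ[R] φ z := by rw [TensorProduct.smul_tmul, Algebra.smul_def, mul_one]; rfl
    | zero => exact ⟨0, N.zero_mem, by simp⟩
    | add x y _ _ hx hy =>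
      obtain ⟨x', hx', rfl⟩ := hx
      obtain ⟨y', hy', rfl⟩ := hy
      exact ⟨x' + y', N.add_mem hx' hy', (tmul_add _ _ _).symm⟩
    | smul s x _ hx =>
      obtain ⟨x', hx', rfl⟩ := hx
      induction s using TensorProduct.induction_on with
      | zero => exact ⟨0, N.zero_mem, by simp⟩
      | tmul a r =>
        obtain ⟨w, hw, e⟩ := hmove (r * x') (N.mul_mem_left r hx') a
        exact ⟨w, hw, by rw [smul_eq_mul, Algebra.TensorProduct.tmul_mul_tmul, mul_one, e]⟩
      | add s₁ s₂ h1 h2 =>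
        obtain ⟨w1, hw1, e1⟩ := h1
        obtain ⟨w2, hw2, e2⟩ := h2
        exact ⟨w1 + w2, N.add_mem hw1 hw2, by rw [add_smul, e1, e2, tmul_add]⟩
  -- `N` is the whole kernel of `R' → B'`
  have hNeq : RingHom.ker pb' ≤ N := by
    intro w hw
    have hK : RingHom.ker p' ≤ J.map μ.toRingHom := by
      refine H.ker_le_map.trans (le_of_eq ?_)
      rw [Ideal.map_map]
      congr 1
      ext a
      show fA a = μ (a ⊗ₜ 1)
      simp [hμ]
    have h1 : pa' w ∈ J.map μ.toRingHom := hK (by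
      show p' (pa' w) = 0
      rw [H.sq'.comm, show pb' w = 0 from hw, map_zero])
    obtain ⟨t, ht, hte⟩ := (Ideal.mem_map_iff_of_surjective _ hsurj).1 h1
    obtain ⟨w', hw', rfl⟩ := hJ t ht
    have h2 : pa' w' = pa' w := by
      rw [← hte]; show _ = μ (1 ⊗ₜ w'); simp [hμ]
    rwa [H.sq'.ext w w' h2.symm (hw.trans (hNker hw').symm)]
  have hinj : Function.Injective μ := by
    rw [injective_iff_map_eq_zero]
    intro t ht
    -- first `t ∈ J`
    let mkA : A →+* (A ⊗[R] R') ⧸ J :=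
      (Ideal.Quotient.mk J).comp (Algebra.TensorProduct.includeLeft : A →ₐ[R] A ⊗[R] R').toRingHom
    let mkR : R' →+* (A ⊗[R] R') ⧸ J :=
      (Ideal.Quotient.mk J).comp (Algebra.TensorProduct.includeRight : R' →ₐ[R] A ⊗[R] R').toRingHom
    have hA0 : RingHom.ker p ≤ RingHom.ker mkA := fun x hx =>
      Ideal.Quotient.eq_zero_iff_mem.2 (Ideal.mem_map_of_mem _ hx)
    have hR0 : RingHom.ker pb' ≤ RingHom.ker mkR := fun w hw => by
      have hle : N ≤ RingHom.ker mkR := Ideal.map_le_iff_le_comap.2 fun z hz => by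
        have h3 : (1 : A) ⊗ₜ[R] φ z = (pa z) ⊗ₜ[R] (1 : R') := by
          calc (1 : A) ⊗ₜ[R] φ z = (1 : A) ⊗ₜ[R] (z • (1 : R')) := by rw [Algebra.smul_def, mul_one]; rfl
            _ = _ := by rw [← TensorProduct.smul_tmul, Algebra.smul_def, mul_one]; rfl
        refine Ideal.Quotient.eq_zero_iff_mem.2 ?_
        show (1 : A) ⊗ₜ[R] φ z ∈ J
        rw [h3]
        exact Ideal.mem_map_of_mem (f := (Algebra.TensorProduct.includeLeft : A →ₐ[R] A ⊗[R] R').toRingHom)
          (show p (pa z) = 0 by rw [H.sq.comm, show pb z = 0 from hz, map_zero])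
      exact hle (hNeq hw)
    let u : C →+* (A ⊗[R] R') ⧸ J := p.liftOfSurjective H.sq.surj ⟨mkA, hA0⟩
    let v : B' →+* (A ⊗[R] R') ⧸ J := pb'.liftOfSurjective H.sq'.snd_surjective ⟨mkR, hR0⟩
    have hu : ∀ a, u (p a) = mkA a := fun a =>
      congr($(RingHom.liftOfRightInverse_comp p _ (Function.rightInverse_surjInv H.sq.surj) ⟨mkA, hA0⟩) a)
    have hv : ∀ r, v (pb' r) = mkR r := fun r =>
      congr($(RingHom.liftOfRightInverse_comp pb' _ (Function.rightInverse_surjInv H.sq'.snd_surjective) ⟨mkR, hR0⟩) r)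
    have hw : CommRingCat.ofHom q ≫ CommRingCat.ofHom u = CommRingCat.ofHom fB ≫ CommRingCat.ofHom v := by
      ext b
      obtain ⟨z, rfl⟩ := H.sq.snd_surjective b
      show u (q (pb z)) = v (fB (pb z))
      rw [← H.sq.comm, hu, ← show pb' (φ z) = fB (pb z) from congr($(H.commB) z), hv]
      show Ideal.Quotient.mk J ((pa z) ⊗ₜ[R] (1 : R')) = Ideal.Quotient.mk J ((1 : A) ⊗ₜ[R] φ z)
      congr 1
      calc pa z ⊗ₜ[R] (1 : R') = (z • (1 : A)) ⊗ₜ[R] (1 : R') := by rw [Algebra.smul_def, mul_one]; rfl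
        _ = _ := by rw [TensorProduct.smul_tmul, Algebra.smul_def, mul_one]; rfl
    let ψ := (H.pushB.desc _ _ hw).hom
    have hψC : ∀ c, ψ (fC c) = u c := fun c => congr($(H.pushB.inl_desc _ _ hw).hom c)
    have hψB : ∀ b, ψ (q' b) = v b := fun b => congr($(H.pushB.inr_desc _ _ hw).hom b)
    have key : ∀ s, ψ (p' (μ s)) = Ideal.Quotient.mk J s := by
      intro s
      induction s using TensorProduct.induction_on with
      | zero => simp
      | tmul a r =>
        rw [hμ, map_mul, map_mul, ← show fC (p a) = p' (fA a) from congr($(H.pushA.w).hom a),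
          hψC, hu, H.sq'.comm, hψB, hv]
        show Ideal.Quotient.mk J _ * Ideal.Quotient.mk J _ = _
        rw [← map_mul]
        simp
      | add s₁ s₂ h1 h2 => simp [map_add, h1, h2]
    have htJ : t ∈ J := by
      rw [← Ideal.Quotient.eq_zero_iff_mem, ← key, ht, map_zero, map_zero]
    obtain ⟨w, hw', rfl⟩ := hJ t htJ
    have hw0 : pa' w = 0 := by rw [← ht, hμ]; simp
    rw [H.sq'.ext w 0 (by rw [hw0, map_zero]) ((hNker hw').trans (map_zero pb').symm), tmul_zero]
  refine ⟨?_, ?_⟩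
  · exact (CommRingCat.isPushout_tensorProduct R A R').of_iso (Iso.refl _) (Iso.refl _) (Iso.refl _)
      (RingEquiv.ofBijective μ.toRingHom ⟨hinj, hsurj⟩).toCommRingCatIso (by ext; rfl) (by ext; rfl)
      (by ext a; show μ (a ⊗ₜ 1) = fA a; simp [hμ]) (by ext r; show μ (1 ⊗ₜ r) = pa' r; simp [hμ])
  · have w : CommRingCat.ofHom pb ≫ CommRingCat.ofHom fB = CommRingCat.ofHom φ ≫ CommRingCat.ofHom pb' :=
      CommRingCat.hom_ext H.commB.symm
    refine ⟨⟨w⟩, ⟨PushoutCocone.isColimitAux' _ fun s => ?_⟩⟩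
    have h0 : RingHom.ker pb' ≤ RingHom.ker s.inr.hom := hNeq.trans
      (Ideal.map_le_iff_le_comap.2 fun z hz => by
        show s.inr.hom (φ z) = 0
        rw [← show s.inl.hom (pb z) = s.inr.hom (φ z) from congr($(s.condition).hom z),
          show pb z = 0 from hz, map_zero])
    let d : B' →+* s.pt := pb'.liftOfSurjective H.sq'.snd_surjective ⟨s.inr.hom, h0⟩
    have hd : ∀ r, d (pb' r) = s.inr.hom r := fun r =>
      congr($(RingHom.liftOfRightInverse_comp pb' _ (Function.rightInverse_surjInv H.sq'.snd_surjective) ⟨s.inr.hom, h0⟩) r)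
    refine ⟨CommRingCat.ofHom d, ?_, ?_, fun {m} _ hm => ?_⟩
    · ext b
      obtain ⟨z, rfl⟩ := H.sq.snd_surjective b
      show d (fB (pb z)) = _
      rw [← show pb' (φ z) = fB (pb z) from congr($(H.commB) z), hd]
      exact congr($(s.condition).hom z).symm
    · ext r; exact hd r
    · ext b'
      obtain ⟨r, rfl⟩ := H.sq'.snd_surjective b'
      exact (congr($(hm).hom r)).trans (hd r).symm

theorem finiteType (hA : fA.FiniteType) (hB : fB.FiniteType) : φ.FiniteType := by
  classical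
  letI := pa.toAlgebra
  letI := φ.toAlgebra
  letI : Algebra R A' := (fA.comp pa).toAlgebra
  let fA' : A →ₐ[R] A' := { fA with commutes' := fun _ => rfl }
  let pa'' : R' →ₐ[R] A' := { pa' with commutes' := fun r => congr($(H.commA) r) }
  let μ : A ⊗[R] R' →ₐ[R] A' := Algebra.TensorProduct.lift fA' pa'' fun _ _ => Commute.all _ _
  have hμ : ∀ a r, μ (a ⊗ₜ r) = fA a * pa' r := fun a r => Algebra.TensorProduct.lift_tmul _ _ _ a r
  have hsurj : Function.Surjective μ := fun x =>
    H.subring_eq_top μ.range.toSubring (fun a => ⟨a ⊗ₜ 1, by simp [hμ]⟩)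
      (fun r => ⟨1 ⊗ₜ r, by simp [hμ]⟩) x
  obtain ⟨sA, hsA⟩ := hA
  obtain ⟨sB, hsB⟩ := hB
  choose t ht using hsurj
  choose F hF using fun x : A' => TensorProduct.exists_finset (t x)
  choose lift hlift using H.sq'.snd_surjective
  let s : Finset R' := sB.image lift ∪ sA.biUnion fun x => (F x).image Prod.snd
  let R'' := Algebra.adjoin R (s : Set R')
  have hB'' : ∀ b', ∃ w ∈ R'', pb' w = b' := by
    intro b'
    letI := fB.toAlgebra
    have hb : b' ∈ Algebra.adjoin B (sB : Set B') := by rw [hsB]; trivial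
    induction hb using Algebra.adjoin_induction with
    | mem x hx => exact ⟨lift x, Algebra.subset_adjoin (Finset.mem_union_left _ (Finset.mem_image_of_mem _ hx)), hlift x⟩
    | algebraMap b =>
      obtain ⟨z, rfl⟩ := H.sq.snd_surjective b
      exact ⟨φ z, R''.algebraMap_mem z, congr($(H.commB) z)⟩
    | add x y _ _ hx hy =>
      obtain ⟨a, ha, rfl⟩ := hx; obtain ⟨b, hb, rfl⟩ := hy
      exact ⟨a + b, R''.add_mem ha hb, map_add _ _ _⟩
    | mul x y _ _ hx hy =>
      obtain ⟨a, ha, rfl⟩ := hx; obtain ⟨b, hb, rfl⟩ := hy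
      exact ⟨a * b, R''.mul_mem ha hb, map_mul _ _ _⟩
  let μ'' : A ⊗[R] R'' →ₐ[R] A' := μ.comp (Algebra.TensorProduct.map (AlgHom.id R A) R''.val)
  have hμ'' : ∀ a (r : R''), μ'' (a ⊗ₜ r) = fA a * pa' r := fun a r => hμ a r
  have hsurj'' : ∀ x, x ∈ μ''.range := by
    intro x
    letI := fA.toAlgebra
    have hx : x ∈ Algebra.adjoin A (sA : Set A') := by rw [hsA]; trivial
    induction hx using Algebra.adjoin_induction with
    | mem x hx =>
      rw [← ht x, hF x, map_sum]
      refine Subalgebra.sum_mem _ fun ij hij => ?_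
      refine ⟨ij.1 ⊗ₜ ⟨ij.2, Algebra.subset_adjoin (Finset.mem_union_right _
        (Finset.mem_biUnion.2 ⟨x, hx, Finset.mem_image_of_mem _ hij⟩))⟩, ?_⟩
      exact (hμ'' _ _).trans (hμ _ _).symm
    | algebraMap a => exact ⟨a ⊗ₜ 1, by show μ'' _ = fA a; simp [hμ'']⟩
    | add x y _ _ hx hy => exact add_mem hx hy
    | mul x y _ _ hx hy => exact mul_mem hx hy
  have hI : ∀ x : A, p x = 0 → ∀ T : A ⊗[R] R'', ∃ w ∈ R'', pb' w = 0 ∧ pa' w = fA x * μ'' T := by
    intro x hx T
    induction T using TensorProduct.induction_on with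
    | zero => exact ⟨0, R''.zero_mem, map_zero _, by simp⟩
    | tmul a r =>
      obtain ⟨z, hz1, hz2⟩ := H.sq.exists_lift (x * a) 0 (by rw [map_mul, hx, zero_mul, map_zero])
      refine ⟨φ z * r, R''.mul_mem (R''.algebraMap_mem z) r.2, ?_, ?_⟩
      · rw [map_mul, show pb' (φ z) = fB (pb z) from congr($(H.commB) z), hz2, map_zero, zero_mul]
      · rw [map_mul, show pa' (φ z) = fA (pa z) from congr($(H.commA) z), hz1, hμ'', map_mul, mul_assoc]
    | add T₁ T₂ h1 h2 =>
      obtain ⟨w1, a1, b1, c1⟩ := h1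
      obtain ⟨w2, a2, b2, c2⟩ := h2
      exact ⟨w1 + w2, R''.add_mem a1 a2, by rw [map_add, b1, b2, add_zero],
        by rw [map_add, c1, c2, map_add, mul_add]⟩
  have hJ : ∀ x ∈ (RingHom.ker p).map fA, ∃ w ∈ R'', pb' w = 0 ∧ pa' w = x := by
    intro x hx
    have : ∀ T, ∃ w ∈ R'', pb' w = 0 ∧ pa' w = x * μ'' T := by
      induction hx using Submodule.span_induction with
      | mem x hx => obtain ⟨x0, hx0, rfl⟩ := hx; exact hI x0 hx0
      | zero => exact fun T => ⟨0, R''.zero_mem, map_zero _, by simp⟩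
      | add x y _ _ hx hy =>
        intro T
        obtain ⟨w1, a1, b1, c1⟩ := hx T
        obtain ⟨w2, a2, b2, c2⟩ := hy T
        exact ⟨w1 + w2, R''.add_mem a1 a2, by rw [map_add, b1, b2, add_zero],
          by rw [map_add, c1, c2, add_mul]⟩
      | smul c x _ hx =>
        intro T
        obtain ⟨T', rfl⟩ := hsurj'' c
        obtain ⟨w, a, b, e⟩ := hx (T' * T)
        refine ⟨w, a, b, e.trans ?_⟩
        rw [map_mul]; show _ = (μ'' T' • x) * _
        rw [smul_eq_mul]; ring
    obtain ⟨w, a, b, e⟩ := this 1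
    exact ⟨w, a, b, by rw [e, map_one, mul_one]⟩
  refine RingHom.finiteType_algebraMap.2 ⟨⟨s, eq_top_iff.2 fun w _ => ?_⟩⟩
  obtain ⟨w1, hw1, e1⟩ := hB'' (pb' w)
  have hker : p' (pa' (w - w1)) = 0 := by
    rw [H.sq'.comm, map_sub, e1, sub_self, map_zero]
  obtain ⟨w2, hw2, e2, e3⟩ := hJ _ (H.ker_le_map hker)
  have h4 : w - w1 = w2 := H.sq'.ext _ _ e3.symm (by rw [map_sub, e1, sub_self, e2])
  rw [show w = w1 + w2 by rw [← h4]; ring]
  exact R''.add_mem hw1 hw2

/-- The fibres of `Spec R' → Spec R` are finite when those of `A'` over `A` and `B'` over `B` are. -/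
theorem finite_fibre (hA : ∀ x : PrimeSpectrum A, (PrimeSpectrum.comap fA ⁻¹' {x}).Finite)
    (hB : ∀ x : PrimeSpectrum B, (PrimeSpectrum.comap fB ⁻¹' {x}).Finite) (r : PrimeSpectrum R) :
    (PrimeSpectrum.comap φ ⁻¹' {r}).Finite := by
  classical
  let EA : Set (PrimeSpectrum A) := {α | PrimeSpectrum.comap pa α = r ∧ ¬ RingHom.ker p ≤ α.asIdeal}
  have hEA : EA.Subsingleton := by
    have aux : ∀ α₁ ∈ EA, ∀ α₂ ∈ EA, α₁.asIdeal ≤ α₂.asIdeal := by
      rintro α₁ ⟨h1, -⟩ α₂ ⟨h2, hn⟩ a ha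
      obtain ⟨x, hx, hxα⟩ := SetLike.not_le_iff_exists.1 hn
      obtain ⟨z, hz, -⟩ := H.sq.exists_lift (a * x) 0 (by
        rw [map_mul, show p x = 0 from hx, mul_zero, map_zero])
      have hz1 : z ∈ r.asIdeal := by
        rw [← h1]; show pa z ∈ α₁.asIdeal
        rw [hz]; exact α₁.asIdeal.mul_mem_right x ha
      rw [← h2] at hz1
      have hz2 : a * x ∈ α₂.asIdeal := hz ▸ (hz1 : pa z ∈ α₂.asIdeal)
      exact (α₂.isPrime.mem_or_mem hz2).resolve_right hxα
    exact fun α₁ h1 α₂ h2 => PrimeSpectrum.ext ((aux α₁ h1 α₂ h2).antisymm (aux α₂ h2 α₁ h1))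
  let EB : Set (PrimeSpectrum B) := PrimeSpectrum.comap pb ⁻¹' {r}
  have hEB : EB.Subsingleton := Set.subsingleton_singleton.preimage
    (PrimeSpectrum.comap_injective_of_surjective pb H.sq.snd_surjective)
  refine ((((hEA.finite.biUnion fun x _ => hA x)).image (PrimeSpectrum.comap pa')).union
    (((hEB.finite.biUnion fun x _ => hB x)).image (PrimeSpectrum.comap pb'))).subset ?_
  intro r' hr'
  have hr' : PrimeSpectrum.comap φ r' = r := hr'
  obtain ⟨β, rfl⟩ | ⟨α, rfl, x, hx, hxα⟩ : (∃ β, PrimeSpectrum.comap pb' β = r') ∨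
      ∃ α, PrimeSpectrum.comap pa' α = r' ∧ ∃ x, p' x = 0 ∧ x ∉ α.asIdeal := by
    by_cases hr : RingHom.ker pb' ≤ r'.asIdeal
    · left
      have : r' ∈ Set.range (PrimeSpectrum.comap pb') := by
        rw [range_comap_of_surjective _ _ H.sq'.snd_surjective]; exact hr
      exact this
    · right
      obtain ⟨w, hw, hwr⟩ := SetLike.not_le_iff_exists.1 hr
      have hj : p' (pa' w) = 0 := by rw [H.sq'.comm, show pb' w = 0 from hw, map_zero]
      -- primes of `R'` not containing `w` come from `A'`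
      let T : Submonoid A' := r'.asIdeal.primeCompl.map pa'
      have hdisj : Disjoint ((r'.asIdeal.map pa' : Ideal A') : Set A') (T : Set A') := by
        rw [Set.disjoint_left]
        rintro _ hm ⟨y, hy, rfl⟩
        have hlift : ∀ a ∈ r'.asIdeal.map pa', ∃ z ∈ r'.asIdeal, pa' z = pa' w * a ∧ pb' z = 0 := by
          intro a ha
          induction ha using Submodule.span_induction with
          | mem a ha =>
            obtain ⟨z, hz, rfl⟩ := ha
            exact ⟨w * z, r'.asIdeal.mul_mem_left w hz, map_mul _ _ _, by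
              rw [map_mul, show pb' w = 0 from hw, zero_mul]⟩
          | zero => exact ⟨0, zero_mem _, by simp, map_zero _⟩
          | add a b _ _ ha hb =>
            obtain ⟨z1, h1, e1, f1⟩ := ha
            obtain ⟨z2, h2, e2, f2⟩ := hb
            exact ⟨z1 + z2, add_mem h1 h2, by rw [map_add, e1, e2, mul_add], by
              rw [map_add, f1, f2, add_zero]⟩
          | smul c a _ ha =>
            obtain ⟨z, h1, e1, f1⟩ := ha
            obtain ⟨z', e', f'⟩ := H.sq'.exists_lift (pa' w * (c * a)) 0 (by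
              rw [map_mul, hj, zero_mul, map_zero])
            refine ⟨z', ?_, e', f'⟩
            -- `z' * w = z * lift (pa' w * c)`
            obtain ⟨c', ec, fc⟩ := H.sq'.exists_lift (pa' w * c) 0 (by
              rw [map_mul, hj, zero_mul, map_zero])
            have hzw : z' * w = c' * z := H.sq'.ext _ _ (by
              rw [map_mul, map_mul, e', ec, e1]; ring) (by
              rw [map_mul, map_mul, f', fc, zero_mul, zero_mul])
            exact (r'.isPrime.mem_or_mem (hzw ▸ r'.asIdeal.mul_mem_left c' h1)).resolve_right hwr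
        obtain ⟨z, hz, ez, fz⟩ := hlift _ hm
        have : z = w * y := H.sq'.ext _ _ (by rw [map_mul, ez]) (by
          rw [map_mul, fz, show pb' w = 0 from hw, zero_mul])
        exact (r'.isPrime.mem_or_mem (this ▸ hz)).elim hwr hy
      obtain ⟨Q, hQ, hle, hQd⟩ := Ideal.exists_le_prime_disjoint _ _ hdisj
      refine ⟨⟨Q, hQ⟩, PrimeSpectrum.ext (le_antisymm (fun y hy => ?_)
        (Ideal.map_le_iff_le_comap.1 hle)), pa' w, hj, fun hmem => ?_⟩
      · by_contra hyr
        exact Set.disjoint_left.1 hQd hy ⟨y, hyr, rfl⟩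
      · exact Set.disjoint_left.1 hQd hmem ⟨w, hwr, rfl⟩
  · refine Or.inr ⟨β, Set.mem_biUnion (x := PrimeSpectrum.comap fB β) ?_ rfl, rfl⟩
    show PrimeSpectrum.comap pb (PrimeSpectrum.comap fB β) = r
    rw [← hr', ← PrimeSpectrum.comap_comp_apply, ← PrimeSpectrum.comap_comp_apply, H.commB]
  · refine Or.inl ⟨α, Set.mem_biUnion (x := PrimeSpectrum.comap fA α) ⟨?_, ?_⟩ rfl, rfl⟩
    · show PrimeSpectrum.comap pa (PrimeSpectrum.comap fA α) = r
      rw [← hr', ← PrimeSpectrum.comap_comp_apply, ← PrimeSpectrum.comap_comp_apply, H.commA]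
    · intro hle
      exact hxα (Ideal.map_le_iff_le_comap.2 hle (H.ker_le_map hx))

end SqHom

end Groth.Agent.H8Props.PushoutQF
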